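import Mathlib.AlgebraicGeometry.AffineTransitionLimit
import Mathlib.AlgebraicGeometry.Morphisms.FinitePresentation
import Mathlib.RingTheory.Spectrum.Prime.ConstructibleSet
import Mathlib.AlgebraicGeometry.IdealSheaf.Subscheme

/-! Topology of cofiltered limits with affine transition maps. -/

open CategoryTheory CategoryTheory.Limits AlgebraicGeometry TopologicalSpace Topology

universe u

namespace Groth.Agent.Lim.Topo

theorem isLocallyConstructible_preimage {X Y : Scheme.{u}} (f : X ⟶ Y) {s : Set Y}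
    (hs : IsLocallyConstructible s) : IsLocallyConstructible (f ⁻¹' s) := by
  intro x
  obtain ⟨U, hxU, hU, hUs⟩ := hs (f x)
  refine ⟨f ⁻¹' U, f.continuous.continuousAt.preimage_mem_nhds hxU, hU.preimage f.continuous, ?_⟩
  have := (f ∣_ ⟨U, hU⟩).isConstructible_preimage hUs
  convert! this using 1
  ext z
  simp only [Set.mem_preimage, morphismRestrict_base]
  exact Iff.rfl

/-- `Q ∩ Z` is the image of an affine scheme, for `Q` affine open and `Z` locally constructible. -/
theorem exists_range_eq_inter {X : Scheme.{u}} {Q : X.Opens} (hQ : IsAffineOpen Q) {Z : Set X}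
    (hZ : IsLocallyConstructible Z) :
    ∃ (S : CommRingCat.{u}) (t : Spec S ⟶ X), Set.range t = (Q : Set X) ∩ Z := by
  have hc : IsConstructible (hQ.fromSpec ⁻¹' Z) :=
    (hZ.preimage_of_isOpenEmbedding hQ.fromSpec.isOpenEmbedding).isConstructible
  obtain ⟨S, _, φ, hφ⟩ := PrimeSpectrum.exists_range_eq_of_isConstructible (R := Γ(X, Q)) hc
  refine ⟨CommRingCat.of S, Spec.map (CommRingCat.ofHom φ) ≫ hQ.fromSpec, ?_⟩
  rw [← hQ.range_fromSpec, Set.inter_comm, ← Set.image_preimage_eq_inter_range]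
  have e : hQ.fromSpec ⁻¹' Z = Set.range (Spec.map (CommRingCat.ofHom φ)) := hφ.symm
  rw [e, ← Set.range_comp]
  rfl

variable {I : Type u} [Category.{u} I] [IsCofiltered I] (D : I ⥤ Scheme.{u}) (c : Cone D)
  (hc : IsLimit c) [∀ {i j : I} (f : i ⟶ j), IsAffineHom (D.map f)]

omit [∀ {i j : I} (f : i ⟶ j), IsAffineHom (D.map f)] in
theorem exists_common {ι : Type*} [Finite ι] {i : I} {P : ι → ∀ j : I, (j ⟶ i) → Prop}
    (hmono : ∀ a j k (φ : j ⟶ i) (ψ : k ⟶ j), P a j φ → P a k (ψ ≫ φ))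
    (h : ∀ a, ∃ j φ, P a j φ) : ∃ j φ, ∀ a, P a j φ := by
  cases nonempty_fintype ι
  suffices ∀ s : Finset ι, ∃ j φ, ∀ a ∈ s, P a j φ from
    (this Finset.univ).imp fun j ⟨φ, h⟩ => ⟨φ, fun a => h a (Finset.mem_univ a)⟩
  intro s
  classical
  induction s using Finset.induction with
  | empty => exact ⟨i, 𝟙 i, by simp⟩
  | insert a s _ ih =>
    obtain ⟨j, φ, hφ⟩ := ih
    obtain ⟨k, ψ, hψ⟩ := h a
    obtain ⟨l, l₁, l₂, hl⟩ := IsCofiltered.cospan φ ψ
    refine ⟨l, l₁ ≫ φ, fun b hb => ?_⟩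
    rcases Finset.mem_insert.mp hb with rfl | hb
    · rw [hl]; exact hmono _ _ _ _ _ hψ
    · exact hmono _ _ _ _ _ (hφ b hb)

/-- The base change of the diagram `D` (over `i`) along `t : T ⟶ D i`. -/
noncomputable def bcDiagram {i : I} {T : Scheme.{u}} (t : T ⟶ D.obj i) : Over i ⥤ Scheme.{u} :=
  Over.post D ⋙ Over.pullback t ⋙ Over.forget _

/-- The projection of the base-changed diagram. -/
noncomputable def bcFst {i : I} {T : Scheme.{u}} (t : T ⟶ D.obj i) :
    bcDiagram D t ⟶ Over.forget i ⋙ D :=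
  Functor.whiskerRight (Functor.whiskerLeft (Over.post D) (Over.mapPullbackAdj t).counit)
    (Over.forget _)

attribute [local instance] CategoryTheory.isConnected_of_hasTerminal

set_option backward.defeqAttrib.useBackward true in
set_option backward.isDefEq.respectTransparency false in
omit [IsCofiltered I] [∀ {i j : I} (f : i ⟶ j), IsAffineHom (D.map f)] in
theorem isPullback_bcDiagram_map {i : I} {T : Scheme.{u}} (t : T ⟶ D.obj i) {a b : Over i}
    (f : a ⟶ b) : IsPullback ((bcDiagram D t).map f) ((bcFst D t).app a) ((bcFst D t).app b)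
      ((Over.forget i ⋙ D).map f) := by
  refine IsPullback.of_right ?_ ?_ (IsPullback.of_hasPullback (D.map b.hom) t).flip
  · convert! (IsPullback.of_hasPullback (D.map a.hom) t).flip using 1
    · simp [bcDiagram]
    · simp [← D.map_comp]
  · simp [bcDiagram, bcFst]

omit [IsCofiltered I] in
theorem isAffineHom_bcDiagram_map {i : I} {T : Scheme.{u}} (t : T ⟶ D.obj i) {a b : Over i}
    (f : a ⟶ b) : IsAffineHom ((bcDiagram D t).map f) :=
  MorphismProperty.of_isPullback (P := @IsAffineHom) (isPullback_bcDiagram_map D t f).flip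
    (inferInstanceAs (IsAffineHom (D.map f.left)))

set_option backward.defeqAttrib.useBackward true in
set_option backward.isDefEq.respectTransparency false in
/-- The cone on the base-changed diagram. -/
noncomputable def bcCone {i : I} {T : Scheme.{u}} (t : T ⟶ D.obj i) : Cone (bcDiagram D t) where
  pt := pullback (c.π.app i) t
  π :=
    { app := fun a => pullback.map _ _ _ _ (c.π.app a.left) (𝟙 T) (𝟙 _) (by simp) (by simp)
      naturality := fun a b f => by
        refine pullback.hom_ext ?_ ?_ <;> simp [bcDiagram] }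

set_option backward.defeqAttrib.useBackward true in
set_option backward.isDefEq.respectTransparency false in
/-- The base-changed cone is limiting. -/
noncomputable def isLimitBcCone {i : I} {T : Scheme.{u}} (t : T ⟶ D.obj i) :
    IsLimit (bcCone D c t) :=
  isLimitOfIsPullbackOfIsConnected (bcFst D t) (bcCone D c t) (c.whisker (Over.forget i))
    { hom := pullback.fst (c.π.app i) t
      w := fun a => by simp [bcCone, bcFst] }
    (fun a => by
      refine IsPullback.of_right ?_ ?_ (IsPullback.of_hasPullback (D.map a.hom) t).flip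
      · convert! (IsPullback.of_hasPullback (c.π.app i) t).flip using 1
        · simp [bcCone]
        · simp
      · simp [bcCone, bcFst])
    ((Functor.Initial.isLimitWhiskerEquiv (Over.forget i) c).symm hc)

include hc in
/-- If no point of the limit maps into the image of a quasi-compact scheme, this already holds at
some stage. -/
theorem eventually_notMem_range {i : I} {T : Scheme.{u}} (t : T ⟶ D.obj i) [CompactSpace T]
    (h : ∀ x : c.pt, c.π.app i x ∉ Set.range t) :
    ∃ (j : I) (φ : j ⟶ i), ∀ y : D.obj j, D.map φ y ∉ Set.range t := by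
  by_contra! H
  have haff : ∀ {a b : Over i} (f : a ⟶ b), IsAffineHom ((bcDiagram D t).map f) :=
    fun f => isAffineHom_bcDiagram_map D t f
  have hcpt : ∀ a : Over i, CompactSpace ((bcDiagram D t).obj a) := fun a =>
    inferInstanceAs (CompactSpace ↑(pullback (D.map a.hom) t))
  have hne : ∀ a : Over i, Nonempty ((bcDiagram D t).obj a) := fun a => by
    obtain ⟨y, z, hz⟩ := H a.left a.hom
    obtain ⟨p, -⟩ := Scheme.Pullback.exists_preimage_pullback y z hz.symm
    exact ⟨p⟩
  obtain ⟨p⟩ : Nonempty ↥(pullback (c.π.app i) t) :=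
    Scheme.nonempty_of_isLimit _ (bcCone D c t) (isLimitBcCone D c hc t)
  exact h (pullback.fst (c.π.app i) t p) ⟨pullback.snd (c.π.app i) t p, by
    rw [← Scheme.Hom.comp_apply, ← Scheme.Hom.comp_apply, pullback.condition]⟩

include hc in
/-- Variant of `eventually_notMem_range` for a closed subset of the source. -/
theorem eventually_notMem_image {i : I} {T : Scheme.{u}} (t : T ⟶ D.obj i) [CompactSpace T]
    {C : Set T} (hC : IsClosed C) (h : ∀ x : c.pt, c.π.app i x ∉ t '' C) :
    ∃ (j : I) (φ : j ⟶ i), ∀ y : D.obj j, D.map φ y ∉ t '' C := by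
  let J := Scheme.IdealSheafData.vanishingIdeal ⟨C, hC⟩
  have hr : Set.range J.subschemeι = C := by
    rw [J.range_subschemeι]; simp [J]
  have : CompactSpace J.subscheme := J.subschemeι.isClosedEmbedding.compactSpace
  have he : Set.range (J.subschemeι ≫ t) = t '' C := by
    rw [← hr, ← Set.range_comp]; rfl
  rw [← he] at h ⊢
  exact eventually_notMem_range D c hc _ h

include hc in
/-- The key lemma: a constructible set cut by a closed and a quasi-compact open set which misses
the limit misses some stage. -/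
theorem eventually_empty {i : I} {W : (D.obj i).Opens} (hW : IsCompact (W : Set (D.obj i)))
    {Z : Set (D.obj i)} (hZ : IsLocallyConstructible Z) {C : Set (D.obj i)} (hC : IsClosed C)
    (h : ∀ x : c.pt, c.π.app i x ∈ W → c.π.app i x ∈ Z → c.π.app i x ∉ C) :
    ∃ (j : I) (φ : j ⟶ i), ∀ y : D.obj j, D.map φ y ∈ W → D.map φ y ∈ Z → D.map φ y ∉ C := by
  obtain ⟨s, hs, hWs⟩ := isCompact_iff_finite_and_eq_biUnion_affineOpens.mp hW
  have := hs.to_subtype
  obtain ⟨j, φ, hφ⟩ := exists_common (ι := s)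
    (P := fun Q j φ => ∀ y : D.obj j, D.map φ y ∈ (Q.1 : (D.obj i).Opens) → D.map φ y ∈ Z →
      D.map φ y ∉ C)
    (fun Q j k φ ψ hP y => by
      rw [D.map_comp, Scheme.Hom.comp_apply]; exact hP _)
    (fun ⟨Q, hQs⟩ => by
      obtain ⟨S, t, ht⟩ := exists_range_eq_inter Q.2 hZ
      obtain ⟨j, φ, hφ⟩ := eventually_notMem_image D c hc t (hC.preimage t.continuous) fun x => by
        rw [Set.image_preimage_eq_inter_range, ht]
        rintro ⟨hxC, hxQ, hxZ⟩
        refine h x ?_ hxZ hxC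
        rw [← SetLike.mem_coe, hWs]
        simp only [Opens.coe_iSup, Set.mem_iUnion]
        exact ⟨Q, hQs, hxQ⟩
      refine ⟨j, φ, fun y hyQ hyZ hyC => hφ y ?_⟩
      rw [Set.image_preimage_eq_inter_range, ht]
      exact ⟨hyC, hyQ, hyZ⟩)
  refine ⟨j, φ, fun y hyW hyZ => ?_⟩
  rw [← SetLike.mem_coe, hWs] at hyW
  simp only [Opens.coe_iSup, Set.mem_iUnion] at hyW
  obtain ⟨Q, hQs, hyQ⟩ := hyW
  exact hφ ⟨Q, hQs⟩ y hyQ hyZ

include hc in
/-- Locally constructible sets in a quasi-compact stage: inclusion descends. -/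
theorem eventually_subset {i : I} [CompactSpace (D.obj i)] {Z Z' : Set (D.obj i)}
    (hZ : IsLocallyConstructible Z) (hZ' : IsLocallyConstructible Z')
    (h : c.π.app i ⁻¹' Z ⊆ c.π.app i ⁻¹' Z') :
    ∃ (j : I) (φ : j ⟶ i), D.map φ ⁻¹' Z ⊆ D.map φ ⁻¹' Z' := by
  obtain ⟨j, φ, hφ⟩ := eventually_empty D c hc (W := ⊤) (by simpa using isCompact_univ)
    (hZ.inter (isLocallyConstructible_compl hZ')) isClosed_univ
    fun x _ ⟨hx, hx'⟩ _ => hx' (h hx)
  refine ⟨j, φ, fun y hy => ?_⟩
  by_contra hy'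
  exact hφ y trivial ⟨hy, hy'⟩ trivial
where
  isLocallyConstructible_compl {X : Scheme.{u}} {s : Set X} (hs : IsLocallyConstructible s) :
      IsLocallyConstructible sᶜ := fun x => by
    obtain ⟨U, hxU, hU, hUs⟩ := hs x
    exact ⟨U, hxU, hU, hUs.compl⟩

include hc in
theorem isCompact_preimage_inter {i : I} {W : (D.obj i).Opens} (hW : IsCompact (W : Set (D.obj i)))
    {Z : Set (D.obj i)} (hZ : IsLocallyConstructible Z) :
    IsCompact (c.π.app i ⁻¹' ((W : Set (D.obj i)) ∩ Z)) := by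
  have := isAffineHom_π_app D c hc i
  obtain ⟨s, hs, hWs⟩ := isCompact_iff_finite_and_eq_biUnion_affineOpens.mp hW
  rw [hWs]
  simp only [Opens.coe_iSup, Set.iUnion₂_inter, Set.preimage_iUnion]
  refine hs.isCompact_biUnion fun Q _ => ?_
  obtain ⟨S, t, ht⟩ := exists_range_eq_inter Q.2 hZ
  rw [← ht, ← Scheme.Pullback.range_fst]
  exact isCompact_range (pullback.fst (c.π.app i) t).continuous

include hc in
/-- If a constructible set becomes open in the limit, it becomes open at some stage. -/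
theorem eventually_isOpen {i : I} {W : (D.obj i).Opens} (hW : IsCompact (W : Set (D.obj i)))
    {Z : Set (D.obj i)} (hZ : IsLocallyConstructible Z)
    (h : IsOpen (c.π.app i ⁻¹' ((W : Set (D.obj i)) ∩ Z))) :
    ∃ (j : I) (φ : j ⟶ i), IsOpen (D.map φ ⁻¹' ((W : Set (D.obj i)) ∩ Z)) := by
  obtain ⟨k, V, hV, hVU⟩ := exists_preimage_eq D c hc ⟨_, h⟩ (isCompact_preimage_inter D c hc hW hZ)
  have hVU' : ∀ x : c.pt, c.π.app k x ∈ V ↔ c.π.app i x ∈ W ∧ c.π.app i x ∈ Z :=
    fun x => SetLike.ext_iff.mp hVU x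
  let l := IsCofiltered.min i k
  let a : l ⟶ i := IsCofiltered.minToLeft i k
  let b : l ⟶ k := IsCofiltered.minToRight i k
  have hWl : IsCompact ((D.map a ⁻¹ᵁ W : (D.obj l).Opens) : Set (D.obj l)) :=
    (D.map a).isCompact_preimage hW
  have hVl : IsCompact ((D.map b ⁻¹ᵁ V : (D.obj l).Opens) : Set (D.obj l)) :=
    (D.map b).isCompact_preimage hV
  have hZl := isLocallyConstructible_preimage (D.map a) hZ
  have hx : ∀ x : c.pt, D.map a (c.π.app l x) = c.π.app i x ∧ D.map b (c.π.app l x) = c.π.app k x :=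
    fun x => by simp [← Scheme.Hom.comp_apply]
  obtain ⟨j₁, φ₁, h₁⟩ := eventually_empty D c hc hWl hZl (D.map b ⁻¹ᵁ V).2.isClosed_compl
    fun x hxW hxZ => by
      simpa [(hx x).2, hVU', ← (hx x).1] using And.intro hxW hxZ
  obtain ⟨j₂, φ₂, h₂⟩ := eventually_empty D c hc hVl (eventually_subset.isLocallyConstructible_compl hZl)
    isClosed_univ fun x hxV hxZ _ => by
      have := (hVU' x).mp (by simpa [(hx x).2] using hxV)
      exact hxZ (by simpa [(hx x).1] using this.2)
  obtain ⟨j₃, φ₃, h₃⟩ := eventually_empty D c hc hVl IsLocallyConstructible.univ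
    (D.map a ⁻¹ᵁ W).2.isClosed_compl fun x hxV _ => by
      have := (hVU' x).mp (by simpa [(hx x).2] using hxV)
      simpa [(hx x).1] using this.1
  obtain ⟨j, φ, hφ⟩ := exists_common (ι := Fin 3) (i := l)
    (P := ![fun j φ => ∀ y : D.obj j, D.map φ y ∈ D.map a ⁻¹ᵁ W → D.map a (D.map φ y) ∈ Z →
        D.map φ y ∈ D.map b ⁻¹ᵁ V,
      fun j φ => ∀ y : D.obj j, D.map φ y ∈ D.map b ⁻¹ᵁ V → D.map a (D.map φ y) ∈ Z,
      fun j φ => ∀ y : D.obj j, D.map φ y ∈ D.map b ⁻¹ᵁ V → D.map φ y ∈ D.map a ⁻¹ᵁ W])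
    (fun n j k φ ψ hP => by
      fin_cases n <;> (intro y; rw [D.map_comp, Scheme.Hom.comp_apply]; exact hP _))
    (fun n => by
      fin_cases n
      · exact ⟨j₁, φ₁, fun y h h' => by_contra fun hn => h₁ y h h' hn⟩
      · exact ⟨j₂, φ₂, fun y h => by_contra fun hn => h₂ y h hn trivial⟩
      · exact ⟨j₃, φ₃, fun y h => by_contra fun hn => h₃ y h trivial hn⟩)
  refine ⟨j, φ ≫ a, ?_⟩
  have e : D.map (φ ≫ a) ⁻¹' ((W : Set (D.obj i)) ∩ Z) = D.map φ ⁻¹' (D.map b ⁻¹ᵁ V : (D.obj l).Opens) := by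
    ext y
    simp only [Set.mem_preimage, Set.mem_inter_iff, SetLike.mem_coe, D.map_comp, Scheme.Hom.comp_apply]
    exact ⟨fun ⟨hW', hZ'⟩ => hφ 0 y hW' hZ', fun hV' => ⟨hφ 2 y hV', hφ 1 y hV'⟩⟩
  rw [e]
  exact (D.map b ⁻¹ᵁ V).2.preimage (D.map φ).continuous

include hc in
/-- Constructible sets of a limit come from a stage. -/
theorem exists_isConstructible_preimage_eq {i₀ : I} [CompactSpace (D.obj i₀)]
    [QuasiSeparatedSpace (D.obj i₀)] {Z : Set c.pt} (hZ : IsConstructible Z) :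
    ∃ (i : I) (_ : i ⟶ i₀) (Zi : Set (D.obj i)),
      IsConstructible Zi ∧ c.π.app i ⁻¹' Zi = Z := by
  have := isAffineHom_π_app D c hc i₀
  have : CompactSpace c.pt := QuasiCompact.compactSpace_of_compactSpace (c.π.app i₀)
  have : QuasiSeparatedSpace c.pt := quasiSeparatedSpace_of_quasiSeparated (c.π.app i₀)
  induction hZ using IsConstructible.empty_union_induction with
  | open_retrocompact U hU hUc =>
    obtain ⟨k, V, hV, hVU⟩ := exists_preimage_eq D c hc ⟨U, hU⟩ hUc.isCompact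
    obtain ⟨l, a, b, -⟩ := IsCofilteredOrEmpty.cone_objs i₀ k
    have : QuasiSeparatedSpace (D.obj l) := quasiSeparatedSpace_of_quasiSeparated (D.map a)
    refine ⟨l, a, D.map b ⁻¹ᵁ V, ((D.map b).isCompact_preimage hV).isConstructible
      (D.map b ⁻¹ᵁ V).2, ?_⟩
    ext x
    have hx : x ∈ c.π.app k ⁻¹ᵁ V ↔ x ∈ U := by rw [hVU]; rfl
    simpa [← Scheme.Hom.comp_apply] using hx
  | union s hs t ht hs' ht' =>
    obtain ⟨i, a, A, hA, rfl⟩ := hs'
    obtain ⟨k, b, B, hB, rfl⟩ := ht'
    obtain ⟨l, l₁, l₂, -⟩ := IsCofiltered.cospan a b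
    refine ⟨l, l₁ ≫ a, D.map l₁ ⁻¹' A ∪ D.map l₂ ⁻¹' B,
      ((D.map l₁).isConstructible_preimage hA).union ((D.map l₂).isConstructible_preimage hB), ?_⟩
    ext x
    simp [← Scheme.Hom.comp_apply]
  | compl s hs hs' =>
    obtain ⟨i, a, A, hA, rfl⟩ := hs'
    exact ⟨i, a, Aᶜ, hA.compl, rfl⟩

include hc in
/-- The projections are dominant when the transition maps are. -/
theorem denseRange_π (hd : ∀ {i j : I} (φ : i ⟶ j), DenseRange (D.map φ)) (i : I) :
    DenseRange (c.π.app i) := by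
  intro x
  rw [mem_closure_iff]
  intro U hU hxU
  obtain ⟨V, hV, hxV, hVU⟩ : ∃ V : (D.obj i).Opens, IsAffineOpen V ∧ x ∈ V ∧ (V : Set (D.obj i)) ⊆ U := by
    obtain ⟨_, ⟨V, hV, rfl⟩, hxV, hVU⟩ :=
      (D.obj i).isBasis_affineOpens.exists_subset_of_mem_open hxU hU
    exact ⟨V, hV, hxV, hVU⟩
  by_contra hne
  have : IsAffine (V : Scheme.{u}) := hV
  obtain ⟨j, φ, hφ⟩ := eventually_notMem_range D c hc V.ι fun z hz => hne
    ⟨c.π.app i z, hVU (V.range_ι.subset hz), z, rfl⟩
  obtain ⟨y, hy⟩ := (hd φ).exists_mem_open V.2 ⟨x, hxV⟩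
  exact hφ y (V.range_ι.symm.subset hy)

end Groth.Agent.Lim.Topo
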