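import Groth.Agent.Lim.Topo
import Groth.Agent.Cons.Basic
import Mathlib.AlgebraicGeometry.ResidueField
import Mathlib.AlgebraicGeometry.Morphisms.Flat
import Mathlib.AlgebraicGeometry.Morphisms.UniversallyOpen

/-! Pro-constructible sets in cofiltered affine limits; projections of flat systems are generalizing. -/

open CategoryTheory CategoryTheory.Limits AlgebraicGeometry TopologicalSpace Topology

universe u

namespace Groth.Agent.Lim.Flat

open Groth.Agent.Cons.Basic Groth.Agent.Lim.Topo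

theorem quasiCompact_fromSpecResidueField {Y : Scheme.{u}} (y : Y) :
    QuasiCompact (Y.fromSpecResidueField y) :=
  ⟨fun _ _ _ => (Set.subsingleton_of_subsingleton (α := PrimeSpectrum (Y.residueField y))).finite.isCompact⟩

variable {I : Type u} [Category.{u} I] [IsCofiltered I] (D : I ⥤ Scheme.{u}) (c : Cone D)
  (hc : IsLimit c) [∀ {i j : I} (f : i ⟶ j), IsAffineHom (D.map f)]

include hc in
/-- A pro-constructible set of a quasi-compact stage missing the limit misses some stage. -/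
theorem eventually_notMem {i : I} [CompactSpace (D.obj i)] {K : Set (D.obj i)}
    (hK : ProCons.IsProConstructible K) (h : ∀ x : c.pt, c.π.app i x ∉ K) :
    ∃ (j : I) (φ : j ⟶ i), ∀ y : D.obj j, D.map φ y ∉ K := by
  obtain ⟨T, t, hT, rfl⟩ := exists_range_eq hK
  exact eventually_notMem_range D c hc t h

include hc in
/-- The projections of a system with flat transition maps are generalizing. -/
theorem generalizingMap_π (hfl : ∀ {i j : I} (φ : i ⟶ j), AlgebraicGeometry.Flat (D.map φ))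
    (i : I) : GeneralizingMap (c.π.app i) := by
  intro x y' hy
  obtain ⟨W, hW, hxW⟩ : ∃ W : (D.obj i).Opens, IsAffineOpen W ∧ c.π.app i x ∈ W := by
    obtain ⟨_, ⟨W, hW, rfl⟩, hxW, -⟩ := (D.obj i).isBasis_affineOpens.exists_subset_of_mem_open
      (Set.mem_univ (c.π.app i x)) isOpen_univ
    exact ⟨W, hW, hxW⟩
  have := isAffineHom_π_app D c hc i
  have hP : IsAffineOpen (c.π.app i ⁻¹ᵁ W) := hW.preimage _
  let P : c.pt.Opens := c.π.app i ⁻¹ᵁ W
  have : IsAffine (P : Scheme.{u}) := hP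
  by_contra! hno
  let J := {b : Σ k : I, (D.obj k).Opens //
    IsAffineOpen b.2 ∧ c.π.app b.1 x ∈ b.2 ∧ c.π.app b.1 ⁻¹ᵁ b.2 ≤ P}
  have hK : ProCons.IsProConstructible (P.ι ⁻¹' (c.π.app i ⁻¹' {y'})) := by
    refine isProConstructible_preimage _ (isProConstructible_preimage _ ?_)
    have h1 := quasiCompact_fromSpecResidueField y'
    rw [← Scheme.range_fromSpecResidueField]
    exact isProConstructible_range _
  obtain ⟨s, hs⟩ := exists_finite_subcover (ι := J) hK
    (fun b : J => (P.ι ⁻¹' (c.π.app b.1.1 ⁻¹' (b.1.2 : Set (D.obj b.1.1))))ᶜ)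
    (fun b => by
      have := isAffineHom_π_app D c hc b.1.1
      have hQ : IsAffineOpen (c.π.app b.1.1 ⁻¹ᵁ b.1.2) := b.2.1.preimage _
      have hcpt : IsCompact (P.ι ⁻¹' (c.π.app b.1.1 ⁻¹' (b.1.2 : Set (D.obj b.1.1)))) := by
        rw [P.ι.isEmbedding.isCompact_iff, Set.image_preimage_eq_inter_range, Scheme.Opens.range_ι,
          Set.inter_eq_left.mpr (show c.π.app b.1.1 ⁻¹' (b.1.2 : Set (D.obj b.1.1)) ⊆ (P : Set c.pt) from b.2.2.2)]
        exact hQ.isCompact
      refine isIndConstructible_iff_isOpen.mpr ?_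
      exact IsCompact.isOpen_constructibleTopology_of_isClosed (by rw [compl_compl]; exact hcpt)
        ((b.1.2.2.preimage (c.π.app b.1.1).continuous).preimage P.ι.continuous).isClosed_compl)
    (fun z hz => by
      have hns : ¬ P.ι z ⤳ x := fun hzx => hno _ hzx hz
      obtain ⟨U, hU, hxU, hzU⟩ : ∃ U, IsOpen U ∧ x ∈ U ∧ P.ι z ∉ U := by
        rw [specializes_iff_forall_open] at hns; simpa using hns
      obtain ⟨_, ⟨k, V, hV, rfl⟩, hxV, hVU⟩ :=
        Opens.isBasis_iff_nbhd.mp (isBasis_preimage_isAffineOpen D c hc) (U := ⟨U, hU⟩ ⊓ P) (x := x) ⟨hxU, hxW⟩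
      exact Set.mem_iUnion.mpr ⟨⟨⟨k, V⟩, hV, hxV, hVU.trans inf_le_right⟩,
        fun hzV => hzU (hVU hzV).1⟩)
  let U' : c.pt.Opens := ⟨⋂ b ∈ s, c.π.app b.1.1 ⁻¹' (b.1.2 : Set (D.obj b.1.1)),
    isOpen_biInter_finset fun b _ => b.1.2.2.preimage (c.π.app b.1.1).continuous⟩
  obtain ⟨_, ⟨k, V, hV, rfl⟩, hxV, hVU⟩ := Opens.isBasis_iff_nbhd.mp (isBasis_preimage_isAffineOpen D c hc) (U := U' ⊓ P) (x := x)
    ⟨Set.mem_iInter₂.mpr fun b _ => b.2.2.1, hxW⟩
  have hmiss : ∀ z : c.pt, c.π.app k z ∈ V → c.π.app i z ≠ y' := by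
    intro z hzV hzy
    have hzUP := hVU hzV
    obtain ⟨z, rfl⟩ := P.range_ι.ge hzUP.2
    obtain ⟨b, hb, hb'⟩ := Set.mem_iUnion₂.mp (hs hzy)
    exact hb' (Set.mem_iInter₂.mp hzUP.1 b hb)
  obtain ⟨l, a, b, -⟩ := IsCofilteredOrEmpty.cone_objs i k
  let V' := D.map b ⁻¹ᵁ V
  have hV' : IsAffineOpen V' := hV.preimage _
  have : IsAffine (V' : Scheme.{u}) := hV'
  have := quasiCompact_fromSpecResidueField y'
  have hw : ∀ z, D.map b (c.π.app l z) = c.π.app k z ∧ D.map a (c.π.app l z) = c.π.app i z :=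
    fun z => by simp [← Scheme.Hom.comp_apply]
  obtain ⟨m, ψ, hψ⟩ := eventually_notMem_range D c hc
    (pullback.fst (V'.ι ≫ D.map a) ((D.obj i).fromSpecResidueField y') ≫ V'.ι) (by
      rintro z ⟨q, hq⟩
      have hzV : c.π.app l z ∈ V' := by
        rw [← hq, Scheme.Hom.comp_apply]; exact Subtype.property _
      refine hmiss z ((congrArg (· ∈ V) (hw z).1).mp hzV) ?_
      rw [← (hw z).2, ← hq, ← Scheme.Hom.comp_apply, Category.assoc, pullback.condition,
        Scheme.Hom.comp_apply]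
      exact Scheme.range_fromSpecResidueField (X := D.obj i) y' |>.le ⟨_, rfl⟩)
  have := hfl (ψ ≫ a)
  obtain ⟨w, hwx, hwy⟩ := AlgebraicGeometry.Flat.generalizingMap (D.map (ψ ≫ a))
    (a := c.π.app m x) (show y' ⤳ D.map (ψ ≫ a) (c.π.app m x) by
      rw [← Scheme.Hom.comp_apply, c.w]; exact hy)
  have hwV : D.map ψ w ∈ V' := (hwx.map (D.map ψ).continuous).mem_open V'.2 (by
    rw [← Scheme.Hom.comp_apply, c.w]
    exact (congrArg (· ∈ V) (hw x).1).mpr hxV)
  obtain ⟨v, hv⟩ := V'.range_ι.ge hwV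
  obtain ⟨pt, hpt⟩ := (Scheme.range_fromSpecResidueField (X := D.obj i) y').ge (rfl : y' = y')
  obtain ⟨q, hq₁, -⟩ := Scheme.Pullback.exists_preimage_pullback (f := V'.ι ≫ D.map a) v pt (by
    rw [hpt, Scheme.Hom.comp_apply, hv, ← Scheme.Hom.comp_apply, ← D.map_comp]; exact hwy)
  exact hψ w ⟨q, by rw [Scheme.Hom.comp_apply, hq₁, hv]⟩

theorem closure_preimage_of_generalizingMap {X Y : Scheme.{u}} (f : X ⟶ Y) (hf : GeneralizingMap f)
    {Z : Set Y} (hZ : ProCons.IsProConstructible Z) : closure (f ⁻¹' Z) = f ⁻¹' closure Z := by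
  refine subset_antisymm (f.continuous.closure_preimage_subset Z) fun x hx => ?_
  obtain ⟨z, hz, hzx⟩ := exists_specializes_of_mem_closure hZ hx
  obtain ⟨x', hx', rfl⟩ := hf hzx
  exact closure_mono (Set.singleton_subset_iff.mpr (show x' ∈ f ⁻¹' Z from hz)) hx'.mem_closure

end Groth.Agent.Lim.Flat
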