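import Mathlib.AlgebraicGeometry.AffineTransitionLimit
import Mathlib.AlgebraicGeometry.RelativeGluing
import Mathlib.AlgebraicGeometry.Cover.Directed
import Mathlib.CategoryTheory.Limits.Final

/-! Existence of cofiltered limits of schemes with affine transition maps. -/

open CategoryTheory CategoryTheory.Limits AlgebraicGeometry TopologicalSpace Opposite

universe u

namespace Groth.Agent.Lim.Existence

theorem hasLimit_of_isAffine {J : Type u} [SmallCategory J] (F : J ⥤ Scheme.{u})
    [∀ j, IsAffine (F.obj j)] : HasLimit F := by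
  let e : F ⟶ (F ⋙ Scheme.Γ.rightOp) ⋙ Scheme.Spec := Functor.whiskerLeft F ΓSpec.adjunction.unit
  have (i : _) : IsIso (e.app i) := IsAffine.affine
  have : IsIso e := NatIso.isIso_of_isIso_app e
  exact ⟨⟨⟨_, (IsLimit.postcomposeInvEquiv (asIso e) _).symm
    (isLimitOfPreserves Scheme.Spec (limit.isLimit (F ⋙ Scheme.Γ.rightOp)))⟩⟩⟩

set_option backward.isDefEq.respectTransparency false
set_option backward.defeqAttrib.useBackward true

variable {I : Type u} [SmallCategory I] [IsCofiltered I] (D : I ⥤ Scheme.{u})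
  [∀ {i j : I} (f : i ⟶ j), IsAffineHom (D.map f)] (i₀ : I)

instance (U : (D.obj i₀).affineOpens) (j : Over i₀) : IsAffine ((opensDiagram D i₀ U.1).obj j) :=
  U.2.preimage (D.map j.hom)

instance (U : (D.obj i₀).affineOpens) : HasLimit (opensDiagram D i₀ U.1) :=
  hasLimit_of_isAffine _

/-- The cone over the diagram given by a piece. -/
noncomputable def pieceCone (U : (D.obj i₀).affineOpens) : Cone (Over.forget i₀ ⋙ D) :=
  (Cone.postcompose (opensDiagramι D i₀ U.1)).obj (limit.cone (opensDiagram D i₀ U.1))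

theorem pieceCone_hom_ext {U : (D.obj i₀).affineOpens} {T : Scheme.{u}}
    {f g : T ⟶ (pieceCone D i₀ U).pt}
    (h : ∀ j, f ≫ (pieceCone D i₀ U).π.app j = g ≫ (pieceCone D i₀ U).π.app j) : f = g := by
  refine limit.hom_ext (F := opensDiagram D i₀ U.1) fun j => ?_
  have hj : f ≫ limit.π (opensDiagram D i₀ U.1) j ≫ (opensDiagramι D i₀ U.1).app j =
    g ≫ limit.π (opensDiagram D i₀ U.1) j ≫ (opensDiagramι D i₀ U.1).app j := h j
  rw [← cancel_mono ((opensDiagramι D i₀ U.1).app j), Category.assoc, Category.assoc]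
  exact hj

theorem pieceCone_exists_lift (U : (D.obj i₀).affineOpens) (s : Cone (Over.forget i₀ ⋙ D))
    (hs : ∀ t, s.π.app (Over.mk (𝟙 i₀)) t ∈ U.1) :
    ∃ l : s.pt ⟶ (pieceCone D i₀ U).pt, ∀ j, l ≫ (pieceCone D i₀ U).π.app j = s.π.app j := by
  have hr : ∀ j, Set.range (s.π.app j) ⊆ Set.range ((opensDiagramι D i₀ U.1).app j) := by
    rintro j _ ⟨t, rfl⟩
    refine ⟨⟨s.π.app j t, ?_⟩, rfl⟩
    change D.map (Over.homMk (V := Over.mk (𝟙 i₀)) j.hom).left (s.π.app j t) ∈ U.1
    have e := congr($(Cone.w s (Over.homMk (V := Over.mk (𝟙 i₀)) j.hom)) t)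
    exact (show D.map (Over.homMk (V := Over.mk (𝟙 i₀)) j.hom).left (s.π.app j t) = _ from e) ▸ hs t
  refine ⟨limit.lift _
    { pt := s.pt
      π :=
      { app := fun j => IsOpenImmersion.lift ((opensDiagramι D i₀ U.1).app j) (s.π.app j) (hr j)
        naturality := fun j k f => by
          rw [← cancel_mono ((opensDiagramι D i₀ U.1).app k)]
          dsimp only [Functor.const_obj_obj, Functor.const_obj_map]
          rw [Category.id_comp, Category.assoc, (opensDiagramι D i₀ U.1).naturality,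
            IsOpenImmersion.lift_fac, IsOpenImmersion.lift_fac_assoc]
          exact (s.w f).symm } }, fun j => ?_⟩
  exact (limit.lift_π_assoc _ _ _).trans (IsOpenImmersion.lift_fac ((opensDiagramι D i₀ U.1).app j) (s.π.app j) (hr j))

/-- The map between pieces. -/
noncomputable def pieceMap {U V : (D.obj i₀).affineOpens} (h : U.1 ≤ V.1) :
    (pieceCone D i₀ U).pt ⟶ (pieceCone D i₀ V).pt :=
  (pieceCone_exists_lift D i₀ V (pieceCone D i₀ U) fun t => h (by
    have := (limit.π (opensDiagram D i₀ U.1) (Over.mk (𝟙 i₀)) t).2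
    change D.map (𝟙 i₀) _ ∈ U.1 at this
    rwa [D.map_id] at this)).choose

@[reassoc]
theorem pieceMap_π {U V : (D.obj i₀).affineOpens} (h : U.1 ≤ V.1) (j : Over i₀) :
    pieceMap D i₀ h ≫ (pieceCone D i₀ V).π.app j = (pieceCone D i₀ U).π.app j :=
  (pieceCone_exists_lift D i₀ V (pieceCone D i₀ U) fun t => h (by
    have := (limit.π (opensDiagram D i₀ U.1) (Over.mk (𝟙 i₀)) t).2
    change D.map (𝟙 i₀) _ ∈ U.1 at this
    rwa [D.map_id] at this)).choose_spec j

/-- The map of a piece to the open it lives over. -/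
noncomputable def pieceToBase (U : (D.obj i₀).affineOpens) : (pieceCone D i₀ U).pt ⟶ U.1 :=
  limit.π (opensDiagram D i₀ U.1) (Over.mk (𝟙 i₀)) ≫
    (D.map (Over.mk (𝟙 i₀)).hom).resLE U.1 _ le_rfl

@[reassoc]
theorem pieceToBase_ι (U : (D.obj i₀).affineOpens) :
    pieceToBase D i₀ U ≫ U.1.ι = (pieceCone D i₀ U).π.app (Over.mk (𝟙 i₀)) := by
  rw [pieceToBase, Category.assoc, Scheme.Hom.resLE_comp_ι]
  exact congrArg (limit.π (opensDiagram D i₀ U.1) (Over.mk (𝟙 i₀)) ≫ ·)
    ((congrArg (Scheme.Opens.ι _ ≫ ·) (D.map_id i₀)).trans (Category.comp_id _))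

theorem pieceMap_toBase {U V : (D.obj i₀).affineOpens} (h : U.1 ≤ V.1) :
    pieceMap D i₀ h ≫ pieceToBase D i₀ V = pieceToBase D i₀ U ≫ (D.obj i₀).homOfLE h := by
  rw [← cancel_mono V.1.ι, Category.assoc, pieceToBase_ι, pieceMap_π, Category.assoc,
    Scheme.homOfLE_ι, pieceToBase_ι]

theorem isPullback_pieceMap {U V : (D.obj i₀).affineOpens} (h : U.1 ≤ V.1) :
    IsPullback (pieceMap D i₀ h) (pieceToBase D i₀ U) (pieceToBase D i₀ V)
      ((D.obj i₀).homOfLE h) := by
  have hcond : ∀ s : PullbackCone (pieceToBase D i₀ V) ((D.obj i₀).homOfLE h),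
      s.fst ≫ (pieceCone D i₀ V).π.app (Over.mk (𝟙 i₀)) = s.snd ≫ U.1.ι := fun s => by
    rw [← pieceToBase_ι, ← Category.assoc, s.condition, Category.assoc]
    exact congrArg (s.snd ≫ ·) ((D.obj i₀).homOfLE_ι h)
  have hl : ∀ s : PullbackCone (pieceToBase D i₀ V) ((D.obj i₀).homOfLE h),
      ∃ l : s.pt ⟶ (pieceCone D i₀ U).pt,
        ∀ j, l ≫ (pieceCone D i₀ U).π.app j = s.fst ≫ (pieceCone D i₀ V).π.app j :=
    fun s => pieceCone_exists_lift D i₀ U ((pieceCone D i₀ V).extend s.fst) fun t => by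
      change (s.fst ≫ (pieceCone D i₀ V).π.app (Over.mk (𝟙 i₀))) t ∈ U.1
      rw [hcond s]
      exact (s.snd t).2
  choose l hl using hl
  refine IsPullback.of_isLimit' ⟨pieceMap_toBase D i₀ h⟩ (PullbackCone.IsLimit.mk _ l ?_ ?_ ?_)
  · intro s
    refine pieceCone_hom_ext D i₀ fun j => ?_
    rw [Category.assoc, pieceMap_π, hl]
  · intro s
    rw [← cancel_mono U.1.ι, Category.assoc, pieceToBase_ι, hl, hcond]
  · intro s m h₁ h₂
    refine pieceCone_hom_ext D i₀ fun j => ?_
    rw [hl, ← pieceMap_π D i₀ h j, ← Category.assoc, h₁]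

/-- The relative gluing datum of pieces. -/
noncomputable def gluingData : (D.obj i₀).directedAffineCover.RelativeGluingData where
  functor :=
  { obj := fun U => (pieceCone D i₀ U).pt
    map := fun h => pieceMap D i₀ (leOfHom h)
    map_id := fun U => pieceCone_hom_ext D i₀ fun j => by rw [pieceMap_π, Category.id_comp]
    map_comp := fun _ _ => pieceCone_hom_ext D i₀ fun j => by
      rw [Category.assoc, pieceMap_π, pieceMap_π, pieceMap_π] }
  natTrans :=
  { app := fun U => pieceToBase D i₀ U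
    naturality := fun _ _ h => pieceMap_toBase D i₀ (leOfHom h) }
  equifibered _ _ h := isPullback_pieceMap D i₀ (leOfHom h)

include i₀ in
theorem exists_isLimit : ∃ c : Cone D, Nonempty (IsLimit c) := by
  let d := gluingData D i₀
  have : Quiver.IsThin (D.obj i₀).directedAffineCover.I₀ := fun _ _ => ⟨fun _ _ => Subsingleton.elim _ _⟩
  have : (d.functor ⋙ Scheme.forget).IsLocallyDirected :=
    Scheme.Cover.RelativeGluingData.instIsLocallyDirectedI₀CompFunctorForgetOfIsThin ..
  let base : ∀ U, (colimit.ι d.functor U) ≫ d.toBase = pieceToBase D i₀ U ≫ U.1.ι :=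
    fun U => d.ι_toBase U
  let gc : Cone (Over.forget i₀ ⋙ D) :=
    { pt := d.glued
      π :=
      { app := fun j => colimit.desc d.functor
          { pt := D.obj j.left
            ι :=
            { app := fun U => (pieceCone D i₀ U).π.app j
              naturality := fun U V h => (pieceMap_π D i₀ (leOfHom h) j).trans (Category.comp_id _).symm } }
        naturality := fun j k f => colimit.hom_ext fun U => by
          dsimp
          rw [Category.id_comp, colimit.ι_desc_assoc, colimit.ι_desc]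
          exact ((pieceCone D i₀ U).w f).symm } }
  have hg : ∀ U j, colimit.ι d.functor U ≫ gc.π.app j = (pieceCone D i₀ U).π.app j :=
    fun U j => colimit.ι_desc _ _
  have h0 : gc.π.app (Over.mk (𝟙 i₀)) = d.toBase :=
    colimit.hom_ext fun U => (hg U _).trans ((pieceToBase_ι D i₀ U).symm.trans (base U).symm)
  have hext : ∀ {T : Scheme.{u}} (f g : T ⟶ d.glued),
      (∀ j, f ≫ gc.π.app j = g ≫ gc.π.app j) → f = g := by
    intro T f g h
    have hb : f ≫ d.toBase = g ≫ d.toBase := h0 ▸ h (Over.mk (𝟙 i₀))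
    refine Scheme.Cover.hom_ext ((D.obj i₀).directedAffineCover.pullback₁ (f ≫ d.toBase)) _ _ fun U => ?_
    let e := ((D.obj i₀).directedAffineCover.pullback₁ (f ≫ d.toBase)).f U
    have hr : ∀ k : T ⟶ d.glued, k ≫ d.toBase = f ≫ d.toBase →
        Set.range (e ≫ k) ⊆ Set.range (colimit.ι d.functor U) := by
      rintro k hk _ ⟨t, rfl⟩
      rw [← d.preimage_toBase_eq_range_ι]
      refine ⟨pullback.snd (f ≫ d.toBase) ((D.obj i₀).directedAffineCover.f U) t, ?_⟩
      rw [← Scheme.Hom.comp_apply, ← Scheme.Hom.comp_apply, Category.assoc, hk]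
      exact (congr($(pullback.condition (f := f ≫ d.toBase)) t)).symm
    rw [← IsOpenImmersion.lift_fac (colimit.ι d.functor U) (e ≫ f) (hr f rfl),
      ← IsOpenImmersion.lift_fac (colimit.ι d.functor U) (e ≫ g) (hr g hb.symm)]
    congr 1
    refine pieceCone_hom_ext D i₀ fun j => ?_
    rw [← hg, IsOpenImmersion.lift_fac_assoc, IsOpenImmersion.lift_fac_assoc,
      Category.assoc, Category.assoc, h j]
  have hlift : ∀ s : Cone (Over.forget i₀ ⋙ D), ∃ l : s.pt ⟶ d.glued, ∀ j, l ≫ gc.π.app j = s.π.app j := by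
    intro s
    let 𝒱 := (D.obj i₀).directedAffineCover.pullback₁ (s.π.app (Over.mk (𝟙 i₀)))
    have hl : ∀ U, ∃ l : 𝒱.X U ⟶ d.glued, ∀ j, l ≫ gc.π.app j = 𝒱.f U ≫ s.π.app j := fun U => by
      obtain ⟨l, hl⟩ := pieceCone_exists_lift D i₀ U (s.extend (𝒱.f U)) fun t => by
        change (𝒱.f U ≫ s.π.app _) t ∈ U.1
        have e : 𝒱.f U ≫ s.π.app (Over.mk (𝟙 i₀)) = pullback.snd _ _ ≫ U.1.ι := pullback.condition
        rw [e]
        exact (pullback.snd (s.π.app (Over.mk (𝟙 i₀))) U.1.ι t).2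
      exact ⟨l ≫ colimit.ι d.functor U, fun j => by rw [Category.assoc, hg]; exact hl j⟩
    choose l hl using hl
    refine ⟨Scheme.Cover.glueMorphisms 𝒱 l fun U V => hext _ _ fun j => ?_, fun j => Scheme.Cover.hom_ext 𝒱 _ _ fun U => ?_⟩
    · rw [Category.assoc, Category.assoc, hl, hl, pullback.condition_assoc]
    · rw [Scheme.Cover.ι_glueMorphisms_assoc, hl]
  choose lift hlift using hlift
  have hgc : IsLimit gc :=
    { lift := lift
      fac := hlift
      uniq := fun s m hm => hext _ _ fun j => (hm j).trans (hlift s j).symm }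
  have : HasLimit (Over.forget i₀ ⋙ D) := ⟨⟨⟨gc, hgc⟩⟩⟩
  have : HasLimit D := Functor.Initial.hasLimit_of_comp (Over.forget i₀)
  exact ⟨limit.cone D, ⟨limit.isLimit D⟩⟩

variable (c : Cone D) (hc : IsLimit c)

include hc in
theorem exists_point (x : ∀ i, D.obj i) (hx : ∀ {i j} (f : i ⟶ j), D.map f (x i) = x j) :
    ∃ s : c.pt, ∀ i, c.π.app i s = x i := by
  have hm : ∀ {i j : I} (f : i ⟶ j),
      ∃ g : Spec ((D.obj i).residueField (x i)) ⟶ Spec ((D.obj j).residueField (x j)),
        g ≫ (D.obj j).fromSpecResidueField (x j) =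
          (D.obj i).fromSpecResidueField (x i) ≫ D.map f := fun {i j} f => by
    obtain ⟨q, hq, e⟩ : ∃ q : D.obj j, q = x j ∧
        ∃ g : Spec ((D.obj i).residueField (x i)) ⟶ Spec ((D.obj j).residueField q),
          g ≫ (D.obj j).fromSpecResidueField q = (D.obj i).fromSpecResidueField (x i) ≫ D.map f :=
      ⟨_, hx f, _, Scheme.Hom.SpecMap_residueFieldMap_fromSpecResidueField (D.map f) (x i)⟩
    exact hq ▸ e
  choose g hg using @hm
  let D' : I ⥤ Scheme.{u} :=
  { obj := fun i => Spec ((D.obj i).residueField (x i))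
    map := g
    map_id := fun i => by simp [← cancel_mono ((D.obj i).fromSpecResidueField (x i)), hg]
    map_comp := fun {i j k} f f' => by
      rw [← cancel_mono ((D.obj k).fromSpecResidueField (x k)), hg, Category.assoc, hg,
        reassoc_of% (hg f), D.map_comp] }
  let ι : D' ⟶ D :=
  { app := fun i => (D.obj i).fromSpecResidueField (x i), naturality := fun _ _ f => hg f }
  have (i : I) : IsAffine (D'.obj i) := inferInstanceAs (IsAffine (Spec _))
  have (i : I) : CompactSpace (D'.obj i) := inferInstanceAs (CompactSpace ↥(Spec _))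
  have (i : I) : Nonempty (D'.obj i) :=
    inferInstanceAs (Nonempty (PrimeSpectrum ((D.obj i).residueField (x i))))
  have : HasLimit D' := hasLimit_of_isAffine D'
  obtain ⟨p⟩ := Scheme.nonempty_of_isLimit D' (limit.cone D') (limit.isLimit D')
  refine ⟨hc.lift ((Cone.postcompose ι).obj (limit.cone D')) p, fun i => ?_⟩
  refine (congr($(hc.fac ((Cone.postcompose ι).obj (limit.cone D')) i) p)).trans ?_
  have hr := (D.obj i).range_fromSpecResidueField (x i)
  exact hr.le ⟨limit.π D' i p, rfl⟩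

include hc in
theorem isLimit_forgetToTop : Nonempty (IsLimit (Scheme.forgetToTop.mapCone c)) := by
  have hbasis := isBasis_preimage_isAffineOpen D c hc
  have hT : Nonempty (IsLimit ((forget TopCat).mapCone (Scheme.forgetToTop.mapCone c))) := by
    rw [Types.isLimit_iff_bijective_sectionOfCone]
    refine ⟨fun (s t : c.pt) h => ?_, fun x => ?_⟩
    · refine (Inseparable.eq (X := c.pt) ?_)
      rw [inseparable_iff_forall_isOpen]
      intro U hU
      have he : ∀ i, c.π.app i s = c.π.app i t := fun i => congr(($h).1 i)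
      constructor <;> intro hm
      · obtain ⟨_, ⟨i, V, -, rfl⟩, hmV, hVU⟩ :=
          Opens.isBasis_iff_nbhd.mp hbasis (U := ⟨U, hU⟩) hm
        exact hVU (show c.π.app i t ∈ V from he i ▸ hmV)
      · obtain ⟨_, ⟨i, V, -, rfl⟩, hmV, hVU⟩ :=
          Opens.isBasis_iff_nbhd.mp hbasis (U := ⟨U, hU⟩) hm
        exact hVU (show c.π.app i s ∈ V from (he i).symm ▸ hmV)
    · obtain ⟨s, hs⟩ := exists_point D c hc x.1 fun f => x.2 f
      exact ⟨s, Subtype.ext (funext hs)⟩
  obtain ⟨hT⟩ := hT
  rw [TopCat.nonempty_isLimit_iff_eq_induced _ hT]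
  refine le_antisymm (le_iInf fun i => continuous_iff_le_induced.mp (c.π.app i).continuous)
    fun U (hU : IsOpen U) => ?_
  rw [@isOpen_iff_forall_mem_open c.pt]
  intro s hs
  obtain ⟨_, ⟨i, V, -, rfl⟩, hsV, hVU⟩ := Opens.isBasis_iff_nbhd.mp hbasis (U := ⟨U, hU⟩) hs
  exact ⟨_, hVU, TopologicalSpace.le_def.mp (iInf_le _ i) _
    (isOpen_induced V.isOpen), hsV⟩

end Groth.Agent.Lim.Existence
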